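import Groth.Agent.MTSect.Core
import Mathlib.FieldTheory.Galois.Infinite
import Mathlib.FieldTheory.IsAlgClosed.AlgebraicClosure

/-!
# Descent of the section to a perfect field
-/

set_option autoImplicit false
set_option linter.unusedSectionVars false
set_option synthInstance.maxHeartbeats 400000
set_option maxHeartbeats 1000000

universe u

open TensorProduct Coalgebra
open Groth.Agent.DiagUnip

noncomputable section

namespace Groth.Agent.MTSect

variable {k : Type u} [Field k]

section Twist

variable {L : Type u} [Field L] [Algebra k L] (σ : L ≃ₐ[k] L) (A : Type u) [CommRing A] [HopfAlgebra k A]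

/-- The action of an automorphism on a base change. -/
abbrev tw : L ⊗[k] A →ₐ[k] L ⊗[k] A := Algebra.TensorProduct.map σ.toAlgHom (AlgHom.id k A)

theorem tw_tw (x : L ⊗[k] A) : tw σ A (tw σ.symm A x) = x := by
  induction x using TensorProduct.induction_on with
  | zero => simp
  | tmul c a => simp
  | add x y hx hy => simp only [map_add, hx, hy]

theorem counit_tw (x : L ⊗[k] A) : counit (R := L) (tw σ A x) = σ (counit (R := L) x) := by
  induction x using TensorProduct.induction_on with
  | zero => simp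
  | tmul c a => simp
  | add x y hx hy => simp only [map_add, hx, hy]

theorem tw_bcHom {B : Type u} [CommRing B] [HopfAlgebra k B] (f : A →ₐc[k] B) (x : L ⊗[k] A) :
    tw σ B (bcHom L f x) = bcHom L f (tw σ A x) := by
  induction x using TensorProduct.induction_on with
  | zero => simp
  | tmul c a => simp [bcHom_tmul]
  | add x y hx hy => simp only [map_add, hx, hy]

end Twist

variable [PerfectField k] {A C : Type u} [CommRing A] [HopfAlgebra k A] [Algebra.FiniteType k A]
  [CommRing C] [HopfAlgebra k C] (ψ : C →ₐc[k] A) (hψ : Function.Injective ψ)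
  (J : Ideal A) [J.IsHopfIdeal k] (hJ : J = Ideal.map (ψ : C →+* A) (RingHom.ker (Bialgebra.counitAlgHom k C)))
  (hH : SGA3b.IsMultTypeConst k (A ⧸ J)) {n : ℕ} (eC : C ≃ₐ[k] MvPolynomial (Fin n) k)

include hψ hJ hH eC in
/-- **Central extensions of affine spaces by groups of multiplicative type over perfect fields split.** -/
theorem existsUnique_retraction : ∃! r : A →ₐc[k] C, r.comp ψ = BialgHom.id k C := by
  classical
  let L := AlgebraicClosure k
  haveI : IsGalois k L := ⟨⟩
  haveI : Algebra.FiniteType k (A ⧸ J) :=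
    Algebra.FiniteType.of_surjective (Ideal.Quotient.mkₐ k J) Ideal.Quotient.mk_surjective
  obtain ⟨M, _, ⟨E⟩⟩ := isDiag_bc (k := k) L hH
  have hdiag : SGA3b.IsDiag L ((L ⊗[k] A) ⧸ bcIdeal L J) :=
    ⟨M, inferInstance, ⟨(BialgEquiv.ofBijective (bcQuotHom L J)
      ⟨bcQuotHom_injective L J, bcQuotHom_surjective L J⟩).trans E⟩⟩
  obtain ⟨M', _, ⟨G⟩⟩ := exists_GBasis hdiag
  let eL : L ⊗[k] C ≃ₐ[L] MvPolynomial (Fin n) L :=
    (Algebra.TensorProduct.congr AlgEquiv.refl eC).trans (MvPolynomial.algebraTensorAlgEquiv k L)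
  obtain ⟨r, hr, huniq⟩ := exists_retraction (bcHom L ψ) (bcHom_injective L ψ hψ) (bcIdeal L J)
    (bcIdeal_eq L J ψ hJ) G eL
  have hrψ : ∀ x, r (bcHom L ψ x) = x := fun x => congrArg (fun f : L ⊗[k] C →ₐc[L] L ⊗[k] C => f x) hr
  have hfix : ∀ (σ : L ≃ₐ[k] L) (a : A), tw σ C (r ((1 : L) ⊗ₜ[k] a)) = r ((1 : L) ⊗ₜ[k] a) := by
    intro σ a
    let r' : L ⊗[k] A →ₐ[L] L ⊗[k] C :=
      { toFun := fun x => tw σ C (r (tw σ.symm A x))
        map_one' := by simp
        map_mul' := fun x y => by simp
        map_zero' := by simp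
        map_add' := fun x y => by simp
        commutes' := fun c => by
          show tw σ C (r (tw σ.symm A (algebraMap L (L ⊗[k] A) c))) = _
          have h1 : tw σ.symm A (algebraMap L (L ⊗[k] A) c) = algebraMap L (L ⊗[k] A) (σ.symm c) := by
            simp [Algebra.TensorProduct.algebraMap_apply]
          rw [h1, show r (algebraMap L (L ⊗[k] A) (σ.symm c)) = algebraMap L (L ⊗[k] C) (σ.symm c) from
            (r : L ⊗[k] A →ₐ[L] L ⊗[k] C).commutes _]
          simp [Algebra.TensorProduct.algebraMap_apply] }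
    have h := huniq r' (fun x => by
        show tw σ C (r (tw σ.symm A (bcHom L ψ x))) = x
        rw [tw_bcHom, hrψ, tw_tw])
      (fun x => by
        show counit (R := L) (tw σ C (r (tw σ.symm A x))) = counit (R := L) x
        rw [counit_tw, CoalgHomClass.counit_comp_apply r, counit_tw, AlgEquiv.apply_symm_apply])
    have h2 : tw σ C (r (tw σ.symm A ((1 : L) ⊗ₜ[k] a))) = r ((1 : L) ⊗ₜ[k] a) := DFunLike.congr_fun h _
    simpa using h2
  let b := Module.Free.chooseBasis k C
  let bL := Algebra.TensorProduct.basis L b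
  have htw : ∀ (σ : L ≃ₐ[k] L) (y : L ⊗[k] C) (i), bL.repr (tw σ C y) i = σ (bL.repr y i) := fun σ y i => by
    induction y using TensorProduct.induction_on with
    | zero => simp
    | tmul c x => simp [bL, mul_comm]
    | add x y hx hy => simp only [map_add, Finsupp.add_apply, hx, hy]
  have hdesc : ∀ a : A, ∃ c : C, r ((1 : L) ⊗ₜ[k] a) = (1 : L) ⊗ₜ[k] c := fun a => by
    set y := r ((1 : L) ⊗ₜ[k] a) with hy
    have hmem : ∀ i, bL.repr y i ∈ Set.range (algebraMap k L) := fun i =>
      (InfiniteGalois.mem_range_algebraMap_iff_fixed _).2 fun σ => by rw [← htw, hy, hfix]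
    choose c hc using hmem
    refine ⟨∑ i ∈ (bL.repr y).support, c i • b i, ?_⟩
    conv_lhs => rw [← bL.linearCombination_repr y]
    rw [Finsupp.linearCombination_apply, Finsupp.sum, TensorProduct.tmul_sum]
    refine Finset.sum_congr rfl fun i _ => ?_
    rw [← hc i, Algebra.TensorProduct.basis_apply, TensorProduct.smul_tmul', ← TensorProduct.smul_tmul,
      ← Algebra.algebraMap_eq_smul_one]
    congr 1
    simp [Algebra.algebraMap_eq_smul_one]
  obtain ⟨r₀, hr₀⟩ := descend_retr L r hr hdesc
  refine ⟨r₀, hr₀, fun r₁ hr₁ => ?_⟩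
  have h : ∀ (r₂ : A →ₐc[k] C), r₂.comp ψ = BialgHom.id k C →
      (bcHom L r₂ : L ⊗[k] A →ₐ[L] L ⊗[k] C) = (r : L ⊗[k] A →ₐ[L] L ⊗[k] C) := fun r₂ hr₂ =>
    huniq _ (fun x => congrArg (fun f : L ⊗[k] C →ₐc[L] L ⊗[k] C => f x) (retr_bc L r₂ hr₂))
      (fun x => CoalgHomClass.counit_comp_apply (bcHom L r₂) x)
  refine BialgHom.ext fun a => inR_injective (k := k) (A := C) L ?_
  exact DFunLike.congr_fun ((h r₁ hr₁).trans (h r₀ hr₀).symm) ((1 : L) ⊗ₜ[k] a)

end Groth.Agent.MTSect
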