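import Groth.Agent.MTSect.Grading
import Mathlib.RingTheory.PicardGroup
import Mathlib.Algebra.MvPolynomial.Nilpotent
import Mathlib.RingTheory.TensorProduct.MvPolynomial
import Mathlib.RingTheory.Polynomial.UniqueFactorization

/-!
# The section of a central extension of an affine space by a diagonalisable group
-/

set_option autoImplicit false
set_option linter.unusedSectionVars false
set_option synthInstance.maxHeartbeats 400000
set_option maxHeartbeats 1000000

universe u

open TensorProduct Coalgebra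
open Groth.Agent.DiagUnip (GBasis)

noncomputable section

namespace Groth.Agent.MTSect

variable {k : Type u} [Field k]

/-- Units of polynomial rings normalised at a point are trivial. -/
theorem eq_one_of_isUnit {D : Type u} [CommRing D] [Algebra k D] {σ : Type} (e : D ≃ₐ[k] MvPolynomial σ k)
    (ε : D →ₐ[k] k) {d : D} (hd : IsUnit d) (h : ε d = 1) : d = 1 := by
  obtain ⟨c, -, hc⟩ := MvPolynomial.isUnit_iff_eq_C_of_isReduced.1 (hd.map e)
  have hd' : d = algebraMap k D c := by
    apply e.injective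
    rw [hc, AlgEquiv.commutes]
    rfl
  rw [hd', AlgHom.commutes] at h
  rw [hd', show c = 1 from h, map_one]

variable {A C : Type u} [CommRing A] [HopfAlgebra k A] [CommRing C] [HopfAlgebra k C]
  (ψ : C →ₐc[k] A) (hψ : Function.Injective ψ)
  (J : Ideal A) [J.IsHopfIdeal k] (hJ : J = Ideal.map (ψ : C →+* A) (RingHom.ker (Bialgebra.counitAlgHom k C)))
  {M : Type u} [CommGroup M] (G : GBasis k (A ⧸ J) M)

include hJ in
theorem mk_psi (c : C) : Ideal.Quotient.mk J (ψ c) = algebraMap k (A ⧸ J) (counit (R := k) c) := by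
  have h : ψ (c - algebraMap k C (counit (R := k) c)) ∈ J := by
    rw [hJ]
    refine Ideal.mem_map_of_mem (ψ : C →+* A) ?_
    simp [RingHom.mem_ker, Bialgebra.counit_algebraMap]
  rw [← sub_eq_zero, ← Ideal.Quotient.mk_algebraMap, ← map_sub, Ideal.Quotient.eq_zero_iff_mem]
  rw [map_sub, show ψ (algebraMap k C (counit (R := k) c)) = algebraMap k A (counit (R := k) c) from
    (ψ : C →ₐ[k] A).commutes _] at h
  exact h

include hJ in
theorem inDeg_psi (c : C) : InDeg G 1 (ψ c) := by
  rw [InDeg, G.one']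
  show Algebra.TensorProduct.map (AlgHom.id k A) (Ideal.Quotient.mkₐ k J) (comul (R := k) (ψ c)) = _
  rw [← CoalgHomClass.map_comp_comul_apply ψ]
  have h : ∀ t : C ⊗[k] C, Algebra.TensorProduct.map (AlgHom.id k A) (Ideal.Quotient.mkₐ k J)
      (TensorProduct.map (ψ : C →ₗ[k] A) (ψ : C →ₗ[k] A) t) =
        ψ (TensorProduct.rid k C ((counit (R := k) (A := C)).lTensor C t)) ⊗ₜ[k] (1 : A ⧸ J) := fun t => by
    induction t using TensorProduct.induction_on with
    | zero => simp
    | add p q hp hq => simp only [map_add, hp, hq, TensorProduct.add_tmul]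
    | tmul p q =>
      simp only [TensorProduct.map_tmul, Algebra.TensorProduct.map_tmul, AlgHom.id_apply, Ideal.Quotient.mkₐ_eq_mk,
        LinearMap.lTensor_tmul, TensorProduct.rid_tmul]
      show ψ p ⊗ₜ[k] Ideal.Quotient.mk J (ψ q) = _
      rw [mk_psi ψ J hJ, map_smul, Algebra.algebraMap_eq_smul_one, TensorProduct.tmul_smul, TensorProduct.smul_tmul']
  refine (h _).trans ?_
  rw [Coalgebra.lTensor_counit_comul, TensorProduct.rid_tmul, one_smul]

include hψ hJ in
theorem mem_range_of_inDeg {a : A} (ha : InDeg G 1 a) : ∃ c, ψ c = a := by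
  have hJle : J ≤ Ideal.span {b : A | b ∈ (ψ : C →ₐ[k] A).range ∧ counit (R := k) b = 0} := by
    refine hJ.le.trans (Ideal.map_le_iff_le_comap.2 fun c hc => Ideal.subset_span ⟨⟨c, rfl⟩, ?_⟩)
    exact (CoalgHomClass.counit_comp_apply ψ c).trans hc
  refine (UnipFilt.coinv_mem (HopfRange.isSubHopf_range ψ) J hJle ?_ : a ∈ (ψ : C →ₐ[k] A).range)
  have hex := Module.Flat.lTensor_exact A (LinearMap.exact_subtype_mkQ (J.restrictScalars k))
  refine (hex _).1 ?_
  have h : ∀ t : A ⊗[k] A, ((J.restrictScalars k).mkQ).lTensor A t =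
      Algebra.TensorProduct.map (AlgHom.id k A) (Ideal.Quotient.mkₐ k J) t := fun t => by
    induction t using TensorProduct.induction_on with
    | zero => simp only [map_zero]; rfl
    | tmul x y => rfl
    | add x y hx hy => simp only [map_add, hx, hy]; rfl
  rw [map_sub, h, h, sub_eq_zero]
  refine ha.trans ?_
  rw [G.one']
  simp

variable {n : ℕ} (eC : C ≃ₐ[k] MvPolynomial (Fin n) k)

include hψ hJ eC in
/-- Every degree contains a unit. -/
theorem exists_unit_inDeg (m : M) : ∃ g : A, InDeg G m g ∧ IsUnit g ∧ counit (R := k) g = 1 := by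
  classical
  letI : Algebra C A := (ψ : C →+* A).toAlgebra
  haveI : FaithfulSMul C A := (faithfulSMul_iff_algebraMap_injective C A).2 hψ
  haveI : IsDomain C := eC.toMulEquiv.isDomain _
  haveI : UniqueFactorizationMonoid C := eC.symm.toMulEquiv.uniqueFactorizationMonoid inferInstance
  let D : M → Submodule C A := fun μ =>
    { carrier := {a | InDeg G μ a}
      add_mem' := fun ha hb => InDeg.add G ha hb
      zero_mem' := inDeg_zero G μ
      smul_mem' := fun c a ha => by
        have h := InDeg.mul G (inDeg_psi ψ J hJ G c) ha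
        rwa [_root_.one_mul] at h }
  have hD1 : D 1 = 1 := by
    refine le_antisymm (fun a ha => ?_) ?_
    · obtain ⟨c, rfl⟩ := mem_range_of_inDeg ψ hψ J hJ G ha
      exact Submodule.algebraMap_mem c
    · rw [Submodule.one_le]
      exact inDeg_one G
  have hmul : ∀ μ, D μ * D μ⁻¹ = 1 := fun μ => by
    refine le_antisymm (Submodule.mul_le.2 fun a ha b hb => ?_) (Submodule.one_le.2 ?_)
    · rw [← hD1]
      show InDeg G 1 (a * b)
      rw [← mul_inv_cancel μ]
      exact InDeg.mul G ha hb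
    · obtain ⟨ι, s, v, u, hv, hu, h⟩ := exists_sum_mul_eq_one G μ
      rw [← h]
      exact Submodule.sum_mem _ fun i _ => by rw [mul_comm (v i)]; exact Submodule.mul_mem_mul (hu i) (hv i)
  let I : M → (Submodule C A)ˣ := fun μ =>
    ⟨D μ, D μ⁻¹, hmul μ, by simpa using hmul μ⁻¹⟩
  haveI hinv : ∀ μ, Module.Invertible C ↥(I μ : Submodule C A) := fun μ => Module.Invertible.left (Submodule.tensorInvEquiv (I μ))
  have hgen : ∀ μ, ∃ g : A, InDeg G μ g ∧ ∀ y, InDeg G μ y → ∃ c, ψ c * g = y := fun μ => by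
    obtain ⟨e⟩ := Module.Invertible.free_iff_linearEquiv.1 (inferInstance : Module.Free C ↥(I μ : Submodule C A))
    refine ⟨(e.symm 1 : (I μ : Submodule C A)).1, (e.symm 1).2, fun y hy => ⟨e ⟨y, hy⟩, ?_⟩⟩
    have h := congrArg Subtype.val (show e ⟨y, hy⟩ • e.symm 1 = (⟨y, hy⟩ : (I μ : Submodule C A)) by
      rw [← map_smul, smul_eq_mul, _root_.mul_one, LinearEquiv.symm_apply_apply])
    exact h
  obtain ⟨g, hg, hgy⟩ := hgen m
  obtain ⟨g', -, hgy'⟩ := hgen m⁻¹
  obtain ⟨ι, s, v, u, hv, hu, h⟩ := exists_sum_mul_eq_one G m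
  choose! c hc using fun i => hgy _ (hu i)
  choose! c' hc' using fun i => hgy' _ (hv i)
  have hunit : IsUnit g := by
    refine IsUnit.of_mul_eq_one (g' * ψ (∑ i ∈ s, c' i * c i)) ?_
    rw [← h, map_sum, Finset.mul_sum, Finset.mul_sum]
    refine Finset.sum_congr rfl fun i _ => ?_
    rw [← hc i, ← hc' i, map_mul]
    ring
  have hne : counit (R := k) g ≠ 0 := (hunit.map (Bialgebra.counitAlgHom k A)).ne_zero
  refine ⟨(counit (R := k) g)⁻¹ • g, ?_, ?_, ?_⟩
  · rw [InDeg, map_smul, hg, TensorProduct.smul_tmul']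
  · rw [Algebra.smul_def]
    exact ((inv_ne_zero hne).isUnit.map _).mul hunit
  · rw [map_smul, smul_eq_mul, inv_mul_cancel₀ hne]

include hψ hJ eC G in
/-- **The retraction**, unique among normalised algebra retractions. -/
theorem exists_retraction : ∃ r : A →ₐc[k] C, r.comp ψ = BialgHom.id k C ∧
    ∀ r' : A →ₐ[k] C, (∀ c, r' (ψ c) = c) → (∀ a, counit (R := k) (r' a) = counit (R := k) a) →
      r' = (r : A →ₐ[k] C) := by
  classical
  choose g hg hgu hge using exists_unit_inDeg ψ hψ J hJ G eC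
  have hg1 : ∀ m (y : A), InDeg G m y → IsUnit y → counit (R := k) y = 1 → y = g m := fun m y hy hyu hye => by
    obtain ⟨y', hy'⟩ := (hgu m).exists_left_inv
    obtain ⟨g', hg'⟩ := (hgu m⁻¹).exists_left_inv
    obtain ⟨c, hc⟩ := mem_range_of_inDeg ψ hψ J hJ G
      (show InDeg G 1 (y * g m⁻¹) by have := InDeg.mul G hy (hg m⁻¹); rwa [mul_inv_cancel] at this)
    obtain ⟨d, hd⟩ := mem_range_of_inDeg ψ hψ J hJ G
      (show InDeg G 1 (g m * g m⁻¹) by have := InDeg.mul G (hg m) (hg m⁻¹); rwa [mul_inv_cancel] at this)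
    have key : ∀ (z : A) (e : C), ψ e = z → IsUnit z → counit (R := k) z = 1 → z = 1 := fun z e he hz hze => by
      obtain ⟨w, hw⟩ := hz.exists_left_inv
      obtain ⟨f, hf⟩ := mem_range_of_inDeg ψ hψ J hJ G (show InDeg G 1 w by
        have h1 : Takeuchi.dbar (k := k) J w * Takeuchi.dbar (k := k) J z = 1 := by rw [← map_mul, hw, map_one]
        have h2 : Takeuchi.dbar (k := k) J z = z ⊗ₜ[k] G.e 1 := he ▸ inDeg_psi ψ J hJ G e
        have h3 : (w ⊗ₜ[k] G.e 1) * (z ⊗ₜ[k] G.e 1) = (1 : A ⊗[k] (A ⧸ J)) := by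
          rw [Algebra.TensorProduct.tmul_mul_tmul, hw, G.one', _root_.mul_one, Algebra.TensorProduct.one_def]
        rw [h2] at h1
        exact left_inv_eq_right_inv h1 ((mul_comm _ _).trans h3))
      have heu : IsUnit e := IsUnit.of_mul_eq_one f (hψ (by rw [map_mul, he, hf, map_one, mul_comm, hw]))
      have : e = 1 := eq_one_of_isUnit eC (Bialgebra.counitAlgHom k C) heu
        ((CoalgHomClass.counit_comp_apply ψ e).symm.trans (he ▸ hze))
      rw [← he, this, map_one]
    have e1 := key _ c hc (hyu.mul (hgu m⁻¹)) (by rw [Bialgebra.counit_mul, hye, hge, _root_.one_mul])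
    have e2 := key _ d hd ((hgu m).mul (hgu m⁻¹)) (by rw [Bialgebra.counit_mul, hge, hge, _root_.one_mul])
    calc y = y * g m⁻¹ * g m := by rw [_root_.mul_assoc, mul_comm (g m⁻¹), e2, _root_.mul_one]
      _ = g m := by rw [e1, _root_.one_mul]
  have hgmul : ∀ m n, g (m * n) = g m * g n := fun m n =>
    (hg1 _ _ (InDeg.mul G (hg m) (hg n)) ((hgu m).mul (hgu n))
      (by rw [Bialgebra.counit_mul, hge, hge, _root_.one_mul])).symm
  have hgone : g 1 = 1 := (hg1 1 1 (inDeg_one G) isUnit_one Bialgebra.counit_one).symm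
  -- the normalisation map
  let χl : (A ⧸ J) →ₗ[k] A := G.e.constr k fun m => g m⁻¹
  have hχe : ∀ m, χl (G.e m) = g m⁻¹ := fun m => G.e.constr_basis k _ m
  let χ : (A ⧸ J) →ₐ[k] A := AlgHom.ofLinearMap χl (by rw [← G.one', hχe, inv_one, hgone]) (fun x y => by
    refine LinearMap.congr_fun₂ (f := (LinearMap.mul k (A ⧸ J)).compr₂ χl)
      (g := (LinearMap.mul k A).compl₁₂ χl χl) (G.e.ext fun a => G.e.ext fun b => ?_) x y
    simp only [LinearMap.compr₂_apply, LinearMap.compl₁₂_apply, LinearMap.mul_apply', ← G.mul', hχe, mul_inv, hgmul])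
  let ρ : A →ₐ[k] A :=
    (Algebra.TensorProduct.lift (AlgHom.id k A) χ fun _ _ => Commute.all _ _).comp (Takeuchi.dbar (k := k) J)
  have hρ : ∀ m a, InDeg G m a → ρ a = a * g m⁻¹ := fun m a ha => by
    show Algebra.TensorProduct.lift (AlgHom.id k A) χ (fun _ _ => Commute.all _ _) (Takeuchi.dbar (k := k) J a) = _
    rw [ha, Algebra.TensorProduct.lift_tmul]
    exact congrArg (a * ·) (hχe m)
  have hρrange : ∀ a, ∃ c, ψ c = ρ a := fun a => by
    obtain ⟨s, hs⟩ := exists_sum G a
    have : InDeg G 1 (ρ a) := by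
      rw [hs, map_sum]
      refine Finset.sum_induction _ (InDeg G 1) (fun _ _ => InDeg.add G) (inDeg_zero G 1) fun m _ => ?_
      rw [hρ m _ (inDeg_comp G m a)]
      have h := InDeg.mul G (inDeg_comp G m a) (hg m⁻¹)
      rwa [mul_inv_cancel] at h
    exact mem_range_of_inDeg ψ hψ J hJ G this
  choose f hf using hρrange
  let r₀ : A →ₐ[k] C :=
    { toFun := f
      map_one' := hψ (by rw [hf, map_one, map_one])
      map_mul' := fun a b => hψ (by rw [hf, map_mul, map_mul, hf, hf])
      map_zero' := hψ (by rw [hf, map_zero, map_zero])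
      map_add' := fun a b => hψ (by rw [hf, map_add, map_add, hf, hf])
      commutes' := fun c => hψ (by rw [hf, AlgHom.commutes]; exact ((ψ : C →ₐ[k] A).commutes c).symm) }
  have hr0ψ : ∀ c, r₀ (ψ c) = c := fun c => hψ (by
    show ψ (f (ψ c)) = ψ c
    rw [hf, hρ 1 _ (inDeg_psi ψ J hJ G c), inv_one, hgone, _root_.mul_one])
  have hr0g : ∀ m, r₀ (g m) = 1 := fun m => hψ (by
    show ψ (f (g m)) = ψ 1
    rw [hf, hρ m _ (hg m), ← hgmul, mul_inv_cancel, hgone, map_one])
  -- algebra maps are determined on the base and the normalised units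
  have hext : ∀ {D : Type u} [CommRing D] [Algebra k D] (f₁ f₂ : A →ₐ[k] D), (∀ c, f₁ (ψ c) = f₂ (ψ c)) →
      (∀ m, f₁ (g m) = f₂ (g m)) → f₁ = f₂ := fun f₁ f₂ h1 h2 => AlgHom.ext fun a => by
    obtain ⟨s, hs⟩ := exists_sum G a
    rw [hs, map_sum, map_sum]
    refine Finset.sum_congr rfl fun m _ => ?_
    obtain ⟨c, hc⟩ := mem_range_of_inDeg ψ hψ J hJ G
      (show InDeg G 1 (comp G m a * g m⁻¹) by
        have h := InDeg.mul G (inDeg_comp G m a) (hg m⁻¹)
        rwa [mul_inv_cancel] at h)
    rw [show comp G m a = ψ c * g m by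
      rw [hc, _root_.mul_assoc, ← hgmul, inv_mul_cancel, hgone, _root_.mul_one], map_mul, map_mul, h1, h2]
  have hcounit : (Bialgebra.counitAlgHom k C).comp r₀ = Bialgebra.counitAlgHom k A := hext _ _
    (fun c => by
      show counit (R := k) (r₀ (ψ c)) = counit (R := k) (ψ c)
      rw [hr0ψ, CoalgHomClass.counit_comp_apply ψ c])
    (fun m => by
      show counit (R := k) (r₀ (g m)) = counit (R := k) (g m)
      rw [hr0g, hge, Bialgebra.counit_one])
  let e₂ : C ⊗[k] C ≃ₐ[k] MvPolynomial (Fin n ⊕ Fin n) k :=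
    (Algebra.TensorProduct.congr eC eC).trans ((MvPolynomial.tensorEquivSum k (Fin n) (Fin n) k).restrictScalars k)
  let ε₂ : C ⊗[k] C →ₐ[k] k := (Algebra.TensorProduct.lmul' k).comp
    (Algebra.TensorProduct.map (Bialgebra.counitAlgHom k C) (Bialgebra.counitAlgHom k C))
  have hcomul : (Algebra.TensorProduct.map r₀ r₀).comp (Bialgebra.comulAlgHom k A) =
      (Bialgebra.comulAlgHom k C).comp r₀ := hext _ _
    (fun c => by
      show Algebra.TensorProduct.map r₀ r₀ (comul (R := k) (ψ c)) = comul (R := k) (r₀ (ψ c))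
      rw [hr0ψ, ← CoalgHomClass.map_comp_comul_apply ψ]
      generalize comul (R := k) c = t
      induction t using TensorProduct.induction_on with
      | zero => simp
      | tmul x y => simp only [TensorProduct.map_tmul, Algebra.TensorProduct.map_tmul]; exact congrArg₂ _ (hr0ψ x) (hr0ψ y)
      | add x y hx hy => simp only [map_add, hx, hy])
    (fun m => by
      show Algebra.TensorProduct.map r₀ r₀ (comul (R := k) (g m)) = comul (R := k) (r₀ (g m))
      rw [hr0g, Bialgebra.comul_one]
      refine eq_one_of_isUnit e₂ ε₂ (((hgu m).map (Bialgebra.comulAlgHom k A)).map _) ?_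
      have hh : ∀ t : A ⊗[k] A, ε₂ (Algebra.TensorProduct.map r₀ r₀ t) =
          counit (R := k) (TensorProduct.rid k A ((counit (R := k) (A := A)).lTensor A t)) := fun t => by
        induction t using TensorProduct.induction_on with
        | zero => simp
        | add x y hx hy => simp only [map_add, hx, hy]
        | tmul x y =>
          have ex : counit (R := k) (r₀ x) = counit (R := k) x := AlgHom.congr_fun hcounit x
          have ey : counit (R := k) (r₀ y) = counit (R := k) y := AlgHom.congr_fun hcounit y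
          simp [ε₂, ex, ey, mul_comm]
      rw [hh, Coalgebra.lTensor_counit_comul, TensorProduct.rid_tmul, one_smul, hge])
  refine ⟨BialgHom.ofAlgHom r₀ hcounit hcomul, BialgHom.ext fun c => hr0ψ c, fun r' h1 h2 => ?_⟩
  refine hext r' r₀ (fun c => by rw [h1, hr0ψ]) fun m => ?_
  rw [hr0g]
  exact eq_one_of_isUnit eC (Bialgebra.counitAlgHom k C) ((hgu m).map r') ((h2 _).trans (hge m))

end Groth.Agent.MTSect
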