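import Groth.Agent.DiagUnip.Eigen
import Groth.Agent.DiagUnip.BaseChange
import Groth.Agent.HopfRange.Basic
import Groth.Agent.Takeuchi.Inv
import Mathlib.LinearAlgebra.TensorProduct.Basis

/-!
# The grading of an extension by a diagonalisable group
-/

set_option autoImplicit false
set_option linter.unusedSectionVars false
set_option synthInstance.maxHeartbeats 400000
set_option maxHeartbeats 1000000

universe u

open TensorProduct Coalgebra
open Groth.Agent.DiagUnip (GBasis)

noncomputable section

namespace Groth.Agent.MTSect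

variable {k : Type u} [Field k] {A : Type u} [CommRing A] [HopfAlgebra k A]
  {J : Ideal A} [J.IsHopfIdeal k] {M : Type u} [CommGroup M] (G : GBasis k (A ⧸ J) M)

/-- The elements of degree `m`. -/
def InDeg (m : M) (a : A) : Prop := Takeuchi.dbar (k := k) J a = a ⊗ₜ[k] G.e m

/-- The component of degree `m`. -/
def comp (m : M) : A →ₗ[k] A :=
  (TensorProduct.rid k A).toLinearMap ∘ₗ (G.e.coord m).lTensor A ∘ₗ (Takeuchi.dbar (k := k) J).toLinearMap

theorem comp_apply (m : M) (a : A) :
    comp G m a = TensorProduct.rid k A ((G.e.coord m).lTensor A (Takeuchi.dbar (k := k) J a)) := rfl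

theorem rid_coord_tmul [DecidableEq M] (m n : M) (a : A) :
    TensorProduct.rid k A ((G.e.coord m).lTensor A (a ⊗ₜ[k] G.e n)) = if n = m then a else 0 := by
  rw [LinearMap.lTensor_tmul, TensorProduct.rid_tmul, Module.Basis.coord_apply, Module.Basis.repr_self,
    Finsupp.single_apply]
  split_ifs <;> simp

theorem exists_decomp (a : A) :
    ∃ c : M →₀ A, Takeuchi.dbar (k := k) J a = c.sum fun m b => b ⊗ₜ[k] G.e m := by
  classical
  let φ := TensorProduct.equivFinsuppOfBasisRight (M := A) G.e
  exact ⟨φ (Takeuchi.dbar (k := k) J a), (φ.symm_apply_apply _).symm.trans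
    (TensorProduct.equivFinsuppOfBasisRight_symm_apply G.e _)⟩

theorem comp_eq_of_decomp {a : A} {c : M →₀ A}
    (h : Takeuchi.dbar (k := k) J a = c.sum fun m b => b ⊗ₜ[k] G.e m) (m : M) : comp G m a = c m := by
  classical
  rw [comp_apply, h, map_finsuppSum, map_finsuppSum, Finsupp.sum, Finset.sum_congr rfl fun n _ => rid_coord_tmul G m n (c n),
    Finset.sum_ite_eq']
  split_ifs with hm
  · rfl
  · exact (Finsupp.notMem_support_iff.1 hm).symm

/-- Coassociativity of the coaction. -/
theorem dbar_dbar (a : A) :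
    TensorProduct.assoc k A (A ⧸ J) (A ⧸ J)
        ((Takeuchi.dbar (k := k) J).toLinearMap.rTensor (A ⧸ J) (Takeuchi.dbar (k := k) J a)) =
      (comul (R := k) (A := A ⧸ J)).lTensor A (Takeuchi.dbar (k := k) J a) := by
  let π : A →ₐc[k] A ⧸ J := Bialgebra.Quotient.mkBialgHom (R := k) J
  let Ψ : A ⊗[k] (A ⊗[k] A) →ₗ[k] A ⊗[k] ((A ⧸ J) ⊗[k] (A ⧸ J)) :=
    (TensorProduct.map (π : A →ₗ[k] A ⧸ J) (π : A →ₗ[k] A ⧸ J)).lTensor A
  have hd : ∀ x : A, Takeuchi.dbar (k := k) J x = (π : A →ₗ[k] A ⧸ J).lTensor A (comul (R := k) x) := fun x => by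
    show Algebra.TensorProduct.map (AlgHom.id k A) (Ideal.Quotient.mkₐ k J) (comul (R := k) x) = _
    generalize comul (R := k) x = t
    induction t using TensorProduct.induction_on with
    | zero => simp
    | tmul p q => rfl
    | add p q hp hq => simp only [map_add, hp, hq]
  have h1 : ∀ t : A ⊗[k] A, TensorProduct.assoc k A (A ⧸ J) (A ⧸ J)
      ((Takeuchi.dbar (k := k) J).toLinearMap.rTensor (A ⧸ J) ((π : A →ₗ[k] A ⧸ J).lTensor A t)) =
      Ψ (TensorProduct.assoc k A A A ((comul (R := k) (A := A)).rTensor A t)) := fun t => by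
    induction t using TensorProduct.induction_on with
    | zero => simp
    | add p q hp hq => simp only [map_add, hp, hq]
    | tmul p q =>
      rw [LinearMap.lTensor_tmul, LinearMap.rTensor_tmul, LinearMap.rTensor_tmul, AlgHom.toLinearMap_apply, hd]
      generalize comul (R := k) p = s
      induction s using TensorProduct.induction_on with
      | zero => simp
      | tmul p₁ p₂ => simp [Ψ]
      | add x y hx hy => simp only [map_add, TensorProduct.add_tmul, hx, hy]
  have h2 : ∀ t : A ⊗[k] A, (comul (R := k) (A := A ⧸ J)).lTensor A ((π : A →ₗ[k] A ⧸ J).lTensor A t) =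
      Ψ ((comul (R := k) (A := A)).lTensor A t) := fun t => by
    induction t using TensorProduct.induction_on with
    | zero => simp
    | add p q hp hq => simp only [map_add, hp, hq]
    | tmul p q =>
      simp only [LinearMap.lTensor_tmul, Ψ]
      congr 1
      first | done | exact (CoalgHomClass.map_comp_comul_apply π q).symm
  rw [hd, h1, h2, Coalgebra.coassoc_apply]

theorem inDeg_comp (m : M) (a : A) : InDeg G m (comp G m a) := by
  classical
  obtain ⟨c, hc⟩ := exists_decomp G a
  rw [comp_eq_of_decomp G hc, InDeg]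
  let E : A ⊗[k] ((A ⧸ J) ⊗[k] (A ⧸ J)) →ₗ[k] A ⊗[k] (A ⧸ J) :=
    ((TensorProduct.rid k (A ⧸ J)).toLinearMap ∘ₗ (G.e.coord m).lTensor (A ⧸ J)).lTensor A
  have h := congrArg E (dbar_dbar (k := k) (J := J) a)
  rw [hc, map_finsuppSum, map_finsuppSum, map_finsuppSum, map_finsuppSum, map_finsuppSum] at h
  have hl : ∀ n b, E (TensorProduct.assoc k A (A ⧸ J) (A ⧸ J)
      ((Takeuchi.dbar (k := k) J).toLinearMap.rTensor (A ⧸ J) (b ⊗ₜ[k] G.e n))) =
      if n = m then Takeuchi.dbar (k := k) J b else 0 := fun n b => by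
    rw [LinearMap.rTensor_tmul, AlgHom.toLinearMap_apply]
    generalize Takeuchi.dbar (k := k) J b = s
    induction s using TensorProduct.induction_on with
    | zero => simp
    | add x y hx hy =>
      simp only [TensorProduct.add_tmul, map_add, hx, hy]
      split_ifs <;> simp
    | tmul x y =>
      simp only [TensorProduct.assoc_tmul, E, LinearMap.lTensor_tmul, LinearMap.comp_apply, LinearEquiv.coe_coe,
        TensorProduct.rid_tmul, Module.Basis.coord_apply, Module.Basis.repr_self, Finsupp.single_apply]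
      split_ifs <;> simp
  have hr : ∀ n b, E ((comul (R := k) (A := A ⧸ J)).lTensor A (b ⊗ₜ[k] G.e n)) =
      if n = m then b ⊗ₜ[k] G.e m else 0 := fun n b => by
    simp only [LinearMap.lTensor_tmul, G.comul', E, LinearMap.comp_apply, LinearEquiv.coe_coe,
      TensorProduct.rid_tmul, Module.Basis.coord_apply, Module.Basis.repr_self, Finsupp.single_apply]
    split_ifs with hnm <;> simp [hnm]
  simp only [hl, hr, Finsupp.sum, Finset.sum_ite_eq'] at h
  split_ifs at h with hm
  · exact h
  · rw [Finsupp.notMem_support_iff.1 hm, map_zero, TensorProduct.zero_tmul]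

theorem exists_sum (a : A) : ∃ s : Finset M, a = ∑ m ∈ s, comp G m a := by
  obtain ⟨c, hc⟩ := exists_decomp G a
  refine ⟨c.support, ?_⟩
  have h : TensorProduct.rid k A ((counit (R := k) (A := A ⧸ J)).lTensor A (Takeuchi.dbar (k := k) J a)) = a := by
    have e : ∀ t : A ⊗[k] A, (counit (R := k) (A := A ⧸ J)).lTensor A
        (Algebra.TensorProduct.map (AlgHom.id k A) (Ideal.Quotient.mkₐ k J) t) =
          (counit (R := k) (A := A)).lTensor A t := fun t => by
      induction t using TensorProduct.induction_on with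
      | zero => simp
      | tmul p q =>
        simp only [Algebra.TensorProduct.map_tmul, AlgHom.id_apply, LinearMap.lTensor_tmul]
        congr 1
      | add p q hp hq => simp only [map_add, hp, hq]
    show TensorProduct.rid k A ((counit (R := k) (A := A ⧸ J)).lTensor A
      (Algebra.TensorProduct.map (AlgHom.id k A) (Ideal.Quotient.mkₐ k J) (comul (R := k) a))) = a
    rw [e, Coalgebra.lTensor_counit_comul, TensorProduct.rid_tmul, one_smul]
  rw [hc, map_finsuppSum, map_finsuppSum, Finsupp.sum] at h
  simp only [LinearMap.lTensor_tmul, TensorProduct.rid_tmul, G.counit', one_smul] at h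
  exact h.symm.trans (Finset.sum_congr rfl fun m _ => (comp_eq_of_decomp G hc m).symm)

theorem InDeg.mul {m n : M} {a b : A} (ha : InDeg G m a) (hb : InDeg G n b) : InDeg G (m * n) (a * b) := by
  rw [InDeg, map_mul, ha, hb, Algebra.TensorProduct.tmul_mul_tmul, ← G.mul']

theorem InDeg.add {m : M} {a b : A} (ha : InDeg G m a) (hb : InDeg G m b) : InDeg G m (a + b) := by
  rw [InDeg, map_add, ha, hb, TensorProduct.add_tmul]

theorem inDeg_zero (m : M) : InDeg G m (0 : A) := by rw [InDeg, map_zero, TensorProduct.zero_tmul]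

theorem inDeg_one : InDeg G 1 (1 : A) := by
  rw [InDeg, map_one, G.one', Algebra.TensorProduct.one_def]

theorem comp_of_inDeg [DecidableEq M] {m : M} {a : A} (ha : InDeg G m a) (n : M) :
    comp G n a = if m = n then a else 0 := by
  rw [comp_apply, ha, rid_coord_tmul]

theorem comp_mul_inDeg {m : M} {y : A} (hy : InDeg G m y) (n : M) (a : A) :
    comp G n (a * y) = comp G (n * m⁻¹) a * y := by
  classical
  obtain ⟨c, hc⟩ := exists_decomp G a
  rw [comp_eq_of_decomp G hc, comp_apply, map_mul, hc, hy, Finsupp.sum, Finset.sum_mul, map_sum, map_sum]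
  simp only [Algebra.TensorProduct.tmul_mul_tmul, ← G.mul', rid_coord_tmul, ← eq_mul_inv_iff_mul_eq,
    Finset.sum_ite_eq']
  split_ifs with h
  · rfl
  · rw [Finsupp.notMem_support_iff.1 h, zero_mul]

/-- The extension is strongly graded. -/
theorem exists_sum_mul_eq_one (m : M) : ∃ (ι : Type u) (s : Finset ι) (v u : ι → A),
    (∀ i, InDeg G m⁻¹ (v i)) ∧ (∀ i, InDeg G m (u i)) ∧ ∑ i ∈ s, v i * u i = 1 := by
  classical
  obtain ⟨y, hy⟩ := Ideal.Quotient.mk_surjective (G.e m)
  let l : WithConv (A →ₐ[k] A ⊗[k] (A ⧸ J)) := WithConv.toConv Algebra.TensorProduct.includeLeft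
  let r : WithConv (A →ₐ[k] A ⊗[k] (A ⧸ J)) :=
    WithConv.toConv ((Algebra.TensorProduct.includeRight : (A ⧸ J) →ₐ[k] A ⊗[k] (A ⧸ J)).comp (Ideal.Quotient.mkₐ k J))
  let δ : WithConv (A →ₐ[k] A ⊗[k] (A ⧸ J)) := WithConv.toConv (Takeuchi.dbar (k := k) J)
  have hδ : δ = l * r := WithConv.ofConv_injective (AlgHom.ext fun a => by
    rw [AlgHom.convMul_apply]
    show Algebra.TensorProduct.map _ _ (comul (R := k) a) = _
    generalize comul (R := k) a = t
    induction t using TensorProduct.induction_on with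
    | zero => simp
    | tmul p q => simp [l, r]
    | add p q hp hq => simp only [map_add, hp, hq])
  have hr : r = l⁻¹ * δ := by rw [hδ]; exact (inv_mul_cancel_left l r).symm
  have h := congrArg (fun f : WithConv (A →ₐ[k] A ⊗[k] (A ⧸ J)) => f.ofConv y) hr
  simp only [AlgHom.convMul_apply] at h
  obtain ⟨S, hS⟩ := TensorProduct.exists_finset (comul (R := k) y)
  have hru : r.ofConv y = (1 : A) ⊗ₜ[k] G.e m := by
    show (1 : A) ⊗ₜ[k] Ideal.Quotient.mk J y = _
    rw [hy]
  rw [hru, hS, map_sum] at h
  simp only [Algebra.TensorProduct.lift_tmul] at h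
  have h2 := congrArg (fun t => TensorProduct.rid k A ((G.e.coord m).lTensor A t)) h
  simp only [map_sum, rid_coord_tmul, if_pos] at h2
  have h3 : ∀ p : A × A, TensorProduct.rid k A ((G.e.coord m).lTensor A
      (l⁻¹.ofConv p.1 * δ.ofConv p.2)) =
      HopfAlgebra.antipode k p.1 * comp G m p.2 := fun p => by
    show TensorProduct.rid k A ((G.e.coord m).lTensor A
      ((HopfAlgebra.antipode k p.1 ⊗ₜ[k] (1 : A ⧸ J)) * Takeuchi.dbar (k := k) J p.2)) = _
    rw [comp_apply]
    generalize Takeuchi.dbar (k := k) J p.2 = t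
    induction t using TensorProduct.induction_on with
    | zero => simp
    | tmul x z => simp [mul_smul_comm]
    | add x z hx hz => simp only [mul_add, map_add, hx, hz]
  simp only [h3] at h2
  refine ⟨A × A, S, fun p => comp G m⁻¹ (HopfAlgebra.antipode k p.1), fun p => comp G m p.2,
    fun p => inDeg_comp G _ _, fun p => inDeg_comp G _ _, ?_⟩
  have h4 := congrArg (comp G 1) h2
  rw [comp_of_inDeg G (inDeg_one G), if_pos rfl, map_sum] at h4
  rw [h4]
  exact Finset.sum_congr rfl fun p _ => by rw [comp_mul_inDeg G (inDeg_comp G m p.2), _root_.one_mul]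

end Groth.Agent.MTSect
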